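import Groth.Agent.NormSH.Main
import Groth.Prelude.Def_SGA7a
import Mathlib

/-!
# The valuation ring of the separable closure of a henselian discretely valued field
-/

set_option autoImplicit false

universe u

open IsLocalRing

namespace Groth.Agent.HenselVal

variable {R K Ω : Type u} [CommRing R] [IsDomain R] [IsDiscreteValuationRing R] [HenselianLocalRing R]
  [Field K] [Algebra R K] [IsFractionRing R K] [Field Ω] [Algebra K Ω] [Algebra R Ω] [IsScalarTower R K Ω]
  [IsSepClosure K Ω]

include K in
/-- in a separable extension of a henselian discretely valued field, an element or its inverse is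
integral -/
theorem isIntegral_or_inv (y : Ω) : IsIntegral R y ∨ IsIntegral R y⁻¹ := by
  haveI := IsSepClosure.separable (k := K) (K := Ω)
  let L : IntermediateField K Ω := IntermediateField.adjoin K {y}
  haveI : FiniteDimensional K L :=
    IntermediateField.adjoin.finiteDimensional (Algebra.IsSeparable.isIntegral K y)
  let C := integralClosure R L
  haveI : IsDedekindDomain C := integralClosure.isDedekindDomain R K L
  haveI : IsLocalRing C := NormSH.isLocalRing_of_isDomain_integral R C
  haveI : Finite (MaximalSpectrum C) :=
    Finite.of_injective (fun _ : MaximalSpectrum C => ()) fun a b _ => MaximalSpectrum.ext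
      ((IsLocalRing.eq_maximalIdeal a.isMaximal).trans (IsLocalRing.eq_maximalIdeal b.isMaximal).symm)
  haveI : IsPrincipalIdealRing C := IsPrincipalIdealRing.of_finite_primes (by
    refine Set.Finite.subset (Set.toFinite {⊥, maximalIdeal C}) fun I hI => ?_
    rcases eq_or_ne I ⊥ with h | h
    · exact Or.inl h
    · exact Or.inr (IsLocalRing.eq_maximalIdeal (hI.isMaximal h)))
  haveI : ValuationRing C := ValuationRing.iff_local_bezout_domain.mpr ⟨inferInstance, inferInstance⟩
  haveI : IsFractionRing C L := integralClosure.isFractionRing_of_finite_extension K L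
  let y' : L := ⟨y, IntermediateField.mem_adjoin_simple_self K y⟩
  rcases ValuationRing.isInteger_or_isInteger C y' with ⟨c, hc⟩ | ⟨c, hc⟩
  · left
    have := c.2.map (L.val.restrictScalars R)
    rwa [show (c : L) = y' from hc] at this
  · right
    have := c.2.map (L.val.restrictScalars R)
    rwa [show (c : L) = y'⁻¹ from hc, map_inv₀] at this

variable (W : ValuationSubring Ω) (hW : SGA7.LiesOver K R W)

include hW in
lemma mem_of_isIntegral {y : Ω} (hy : IsIntegral R y) : y ∈ W := by
  let c : R →+* W := ((algebraMap K Ω).comp (algebraMap R K)).codRestrict W.toSubring hW.1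
  letI : Algebra R W := c.toAlgebra
  haveI : IsScalarTower R W Ω := IsScalarTower.of_algebraMap_eq fun r =>
    IsScalarTower.algebraMap_apply R K Ω r
  obtain ⟨w, hw⟩ := IsIntegrallyClosed.isIntegral_iff.mp (hy.tower_top (A := W))
  rw [← hw]
  exact w.2

include hW in
/-- the valuation ring is the integral closure -/
theorem mem_iff_isIntegral {y : Ω} : y ∈ W ↔ IsIntegral R y := by
  refine ⟨fun hy => ?_, mem_of_isIntegral W hW⟩
  rcases eq_or_ne y 0 with rfl | hy0
  · exact isIntegral_zero
  rcases isIntegral_or_inv (R := R) (K := K) y with h | h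
  · exact h
  let B := integralClosure R Ω
  haveI : IsLocalRing B := NormSH.isLocalRing_of_isDomain_integral R B
  let c : B →+* W := B.val.toRingHom.codRestrict W.toSubring fun b => mem_of_isIntegral W hW b.2
  by_cases hu : IsUnit (⟨y⁻¹, h⟩ : B)
  · have := hu.unit⁻¹.1.2
    have e : ((hu.unit⁻¹ : Bˣ) : B).1 = y := by
      have h1 : ((hu.unit⁻¹ : Bˣ) : B).1 * y⁻¹ = 1 := congrArg Subtype.val hu.val_inv_mul
      exact (mul_inv_eq_one₀ hy0).mp h1
    rwa [e] at this
  · exfalso
    have hP : ((maximalIdeal W).comap c).IsMaximal := by
      refine Ideal.isMaximal_of_isIntegral_of_isMaximal_comap (R := R) _ ?_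
      rw [Ideal.comap_comap]
      have : (maximalIdeal W).comap (c.comp (algebraMap R B)) = maximalIdeal R := by
        refine ((IsLocalRing.maximalIdeal.isMaximal R).eq_of_le ?_ fun r hr => ?_).symm
        · exact Ideal.IsPrime.ne_top'
        · exact (ValuationSubring.valuation_lt_one_iff W _).mpr (by
            have := hW.2 r hr
            rwa [← IsScalarTower.algebraMap_apply] at this)
      rw [this]
      infer_instance
    have hmem : (⟨y⁻¹, h⟩ : B) ∈ (maximalIdeal W).comap c := by
      rw [IsLocalRing.eq_maximalIdeal hP]
      exact hu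
    rw [Ideal.mem_comap, ValuationSubring.valuation_lt_one_iff] at hmem
    change W.valuation y⁻¹ < 1 at hmem
    have h1 : W.valuation y ≤ 1 := (W.valuation_le_one_iff y).mpr hy
    have : W.valuation (y * y⁻¹) < 1 := by
      rw [map_mul]
      exact lt_of_le_of_lt (mul_le_of_le_one_left' h1) hmem
    rw [mul_inv_cancel₀ hy0, map_one] at this
    exact lt_irrefl _ this

include hW in
/-- valuation subrings over a henselian ring agree -/
theorem eq_of_liesOver (W' : ValuationSubring Ω) (hW' : SGA7.LiesOver K R W') : W' = W := by
  ext y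
  rw [mem_iff_isIntegral W hW, mem_iff_isIntegral W' hW']

include hW in
theorem apply_mem_iff (σ : Ω ≃ₐ[K] Ω) {y : Ω} : σ y ∈ W ↔ y ∈ W := by
  rw [mem_iff_isIntegral W hW, mem_iff_isIntegral W hW]
  exact isIntegral_algEquiv (σ.restrictScalars R)

end Groth.Agent.HenselVal
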