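import Groth.Agent.HenselVal.Basic
import Mathlib

/-!
# A finite Galois extension fixed by inertia is unramified
-/

set_option autoImplicit false

universe u

open IsLocalRing
open scoped TensorProduct

namespace Groth.Agent.HenselVal

variable {R K Ω : Type u} [CommRing R] [IsDomain R] [IsDiscreteValuationRing R] [HenselianLocalRing R]
  [Field K] [Algebra R K] [IsFractionRing R K] [Field Ω] [Algebra K Ω] [Algebra R Ω] [IsScalarTower R K Ω]
  [IsSepClosure K Ω]
  (W : ValuationSubring Ω) (hW : SGA7.LiesOver K R W)

/-- the restriction of an automorphism to the valuation ring -/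
def resW (σ : Ω ≃ₐ[K] Ω) : W ≃+* W :=
  { toFun := fun w => ⟨σ w, (apply_mem_iff W hW σ).mpr w.2⟩
    invFun := fun w => ⟨σ.symm w, (apply_mem_iff W hW σ.symm).mpr w.2⟩
    left_inv := fun w => Subtype.ext (σ.symm_apply_apply _)
    right_inv := fun w => Subtype.ext (σ.apply_symm_apply _)
    map_mul' := fun _ _ => Subtype.ext (map_mul σ _ _)
    map_add' := fun _ _ => Subtype.ext (map_add σ _ _) }

lemma coe_resW (σ : Ω ≃ₐ[K] Ω) (w : W) : (resW W hW σ w : Ω) = σ w := rfl

lemma resW_mem_maximalIdeal (σ : Ω ≃ₐ[K] Ω) {w : W} (hw : w ∈ maximalIdeal W) :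
    resW W hW σ w ∈ maximalIdeal W := fun h => hw (by
  simpa using h.map (resW W hW σ).symm)

variable (M : IntermediateField K Ω) [FiniteDimensional K M] [IsGalois K M]

set_option maxHeartbeats 1000000 in
include hW in
theorem etale_integralClosure
    (hfix : ∀ σ : Ω ≃ₐ[K] Ω, SGA7.IsInertia W σ → ∀ y ∈ M, σ y = y) :
    Algebra.Etale R (integralClosure R M) := by
  classical
  haveI := IsSepClosure.separable (k := K) (K := Ω)
  haveI : IsGalois K Ω := IsSepClosure.isGalois ..
  haveI : IsGalois M Ω := IsGalois.tower_top_of_isGalois K M Ω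
  let S := integralClosure R M
  haveI : Module.IsTorsionFree R M := Module.isTorsionFree_iff_algebraMap_injective.mpr (by
    rw [IsScalarTower.algebraMap_eq R K M]
    exact (algebraMap K M).injective.comp (IsFractionRing.injective R K))
  haveI : IsLocalRing S := NormSH.isLocalRing_of_isDomain_integral R S
  haveI : Module.Finite R S := IsIntegralClosure.finite R K M S
  haveI : Module.Free R S := IsIntegralClosure.module_free R K M S
  haveI : IsLocalHom (algebraMap R S) := Algebra.IsIntegral.isLocalHom R S
  have hmemW : ∀ s : S, ((s : M) : Ω) ∈ W := fun s =>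
    mem_of_isIntegral W hW (s.2.map (M.val.restrictScalars R))
  let c : S →+* W := ((algebraMap M Ω).comp S.val.toRingHom).codRestrict W.toSubring hmemW
  letI : Algebra S W := c.toAlgebra
  let cR : R →+* W := ((algebraMap K Ω).comp (algebraMap R K)).codRestrict W.toSubring hW.1
  letI : Algebra R W := cR.toAlgebra
  haveI : IsScalarTower R S W := IsScalarTower.of_algebraMap_eq fun r => Subtype.ext
    ((IsScalarTower.algebraMap_apply R K Ω r).symm.trans ((M.val.restrictScalars R).commutes r).symm)
  haveI : Algebra.IsIntegral R W := ⟨fun w => by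
    obtain ⟨p, hp, hp0⟩ := (mem_iff_isIntegral W hW).mp w.2
    refine ⟨p, hp, Subtype.val_injective ?_⟩
    have : algebraMap R Ω = W.subtype.comp cR := RingHom.ext fun r => IsScalarTower.algebraMap_apply R K Ω r
    rw [this] at hp0
    exact ((Polynomial.hom_eval₂ p cR W.subtype w).trans hp0).trans (map_zero W.subtype).symm⟩
  haveI : Algebra.IsIntegral S W := Algebra.IsIntegral.tower_top (R := R)
  let P : Ideal S := maximalIdeal S
  let Q : Ideal W := maximalIdeal W
  haveI hQP : Q.LiesOver P := ⟨(IsLocalRing.eq_maximalIdeal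
    (Ideal.isMaximal_comap_of_isIntegral_of_isMaximal (R := S) Q)).symm⟩
  -- the group `Gal(Ω/M)` acting on `W`
  let G := Ω ≃ₐ[M] Ω
  letI : MulSemiringAction G W :=
    { smul := fun g w => resW W hW (g.restrictScalars K) w
      one_smul := fun w => Subtype.ext rfl
      mul_smul := fun g h w => Subtype.ext rfl
      smul_zero := fun g => map_zero (resW W hW (g.restrictScalars K))
      smul_add := fun g => map_add (resW W hW (g.restrictScalars K))
      smul_one := fun g => map_one (resW W hW (g.restrictScalars K))
      smul_mul := fun g => map_mul (resW W hW (g.restrictScalars K)) }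
  haveI : SMulCommClass G S W := ⟨fun g s w => Subtype.ext (by
    change g (((s : M) : Ω) * (w : Ω)) = ((s : M) : Ω) * g (w : Ω)
    rw [map_mul]
    congr 1
    exact g.commutes _)⟩
  haveI : Algebra.IsInvariant S W G := ⟨fun w hw => by
    have h1 : (w : Ω) ∈ (⊥ : IntermediateField M Ω) :=
      (InfiniteGalois.mem_bot_iff_fixed (w : Ω)).mpr fun g => congrArg Subtype.val (hw g)
    obtain ⟨m, hm⟩ := IntermediateField.mem_bot.mp h1
    have hint : IsIntegral R m := by
      rw [← isIntegral_algHom_iff (M.val.restrictScalars R) M.val.injective]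
      change IsIntegral R (m : Ω)
      rw [show (m : Ω) = (w : Ω) from hm]
      exact (mem_iff_isIntegral W hW).mp w.2
    exact ⟨⟨m, hint⟩, Subtype.ext hm⟩⟩
  letI : TopologicalSpace W := ⊥
  haveI : DiscreteTopology W := ⟨rfl⟩
  haveI : ContinuousSMul G W := continuousSMul_iff_stabilizer_isOpen.mpr fun w => by
    let E := IntermediateField.adjoin M ({(w : Ω)} : Set Ω)
    haveI : FiniteDimensional M E :=
      IntermediateField.adjoin.finiteDimensional (Algebra.IsSeparable.isIntegral M (w : Ω))
    refine Subgroup.isOpen_mono ?_ E.fixingSubgroup_isOpen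
    intro g hg
    refine Subtype.ext ?_
    change g (w : Ω) = w
    exact ((IntermediateField.mem_fixingSubgroup_iff E g).mp hg) _
      (IntermediateField.mem_adjoin_simple_self M _)
  -- the finite group
  let T := M ≃ₐ[K] M
  let rS : T →* (S ≃ₐ[R] S) := (galRestrict R K M S).toMonoidHom
  have hrS : ∀ (t : T) (s : S), ((rS t s : S) : M) = t s := fun t s =>
    algebraMap_galRestrict_apply R t s
  let k := ResidueField R
  let l := ResidueField S
  have hcomm : ∀ (t : T) (x : k), ResidueField.mapEquiv (rS t).toRingEquiv (algebraMap k l x) =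
      algebraMap k l x := by
    intro t x
    obtain ⟨r, rfl⟩ := IsLocalRing.residue_surjective x
    change residue S (rS t (algebraMap R S r)) = residue S (algebraMap R S r)
    rw [AlgEquiv.commutes]
  let ψ : T → (l ≃ₐ[k] l) := fun t =>
    AlgEquiv.ofRingEquiv (f := ResidueField.mapEquiv (rS t).toRingEquiv) (hcomm t)
  have hψ : Function.Injective ψ := by
    intro t t' h
    have hres : ∀ s : S, residue S (rS t s) = residue S (rS t' s) := fun s =>
      DFunLike.congr_fun h (residue S s)
    -- reduce to an automorphism trivial on the residue field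
    let τ : T := t'⁻¹ * t
    have hτ : ∀ s : S, residue S (rS τ s) = residue S s := by
      intro s
      have h2 := congrArg (ResidueField.mapEquiv (rS t'⁻¹).toRingEquiv) (hres s)
      change residue S (rS t'⁻¹ (rS t s)) = residue S (rS t'⁻¹ (rS t' s)) at h2
      rw [← AlgEquiv.mul_apply, ← AlgEquiv.mul_apply, ← map_mul, ← map_mul, inv_mul_cancel, map_one] at h2
      exact h2
    suffices τ = 1 by exact (inv_mul_eq_one.mp this).symm
    let σ : Ω ≃ₐ[K] Ω := τ.liftNormal Ω
    have hσM : ∀ m : M, σ (m : Ω) = (τ m : Ω) := fun m => τ.liftNormal_commutes Ω m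
    have hσmem : ∀ w : W, w ∈ Q → resW W hW σ w ∈ Q := fun w => resW_mem_maximalIdeal W hW σ
    let σQ : (W ⧸ Q) ≃ₐ[S ⧸ P] (W ⧸ Q) := AlgEquiv.ofRingEquiv
      (f := Ideal.quotientEquiv Q Q (resW W hW σ) (by
        refine le_antisymm (fun w hw => ?_) (Ideal.map_le_iff_le_comap.mpr hσmem)
        rw [show w = resW W hW σ ((resW W hW σ).symm w) from ((resW W hW σ).apply_symm_apply w).symm]
        exact Ideal.mem_map_of_mem _ (resW_mem_maximalIdeal W hW σ.symm hw)))
      (fun x => by
        obtain ⟨s, rfl⟩ := Ideal.Quotient.mk_surjective x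
        change Ideal.Quotient.mk Q (resW W hW σ (c s)) = Ideal.Quotient.mk Q (c s)
        have : resW W hW σ (c s) = c (rS τ s) := Subtype.ext (by
          change σ ((s : M) : Ω) = (((rS τ s : S) : M) : Ω)
          rw [hσM, hrS])
        rw [this, Ideal.Quotient.eq, ← map_sub]
        have h3 : rS τ s - s ∈ P := by
          rw [← IsLocalRing.residue_eq_zero_iff, map_sub, hτ, sub_self]
        exact (Ideal.mem_of_liesOver Q P _).mp h3)
    obtain ⟨⟨γ, hγ⟩, hγσ⟩ := Ideal.Quotient.stabilizerHom_surjective_of_profinite (G := G) P Q σQ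
    have hin : SGA7.IsInertia W ((γ.restrictScalars K).symm * σ) := by
      intro x hx
      let w : W := ⟨x, hx⟩
      let w' := resW W hW ((γ.restrictScalars K).symm * σ) w
      refine ⟨w'.2, (ValuationSubring.valuation_lt_one_iff W (w' - w)).mp ?_⟩
      have h4 : Ideal.Quotient.mk Q (resW W hW (γ.restrictScalars K) w) =
          Ideal.Quotient.mk Q (resW W hW σ w) := DFunLike.congr_fun hγσ (Ideal.Quotient.mk Q w)
      rw [Ideal.Quotient.eq] at h4
      have h5 := resW_mem_maximalIdeal W hW (γ.restrictScalars K).symm h4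
      have e : resW W hW (γ.restrictScalars K).symm
          (resW W hW (γ.restrictScalars K) w - resW W hW σ w) = w - w' := Subtype.ext (by
        change (γ.restrictScalars K).symm ((γ.restrictScalars K) x - σ x) = x - _
        rw [map_sub, AlgEquiv.symm_apply_apply]
        rfl)
      rw [e] at h5
      have := neg_mem h5
      rwa [neg_sub] at this
    refine AlgEquiv.ext fun m => Subtype.val_injective ?_
    have h6 := hfix _ hin (m : Ω) m.2
    change (γ.restrictScalars K).symm (σ (m : Ω)) = (m : Ω) at h6
    have h7 := congrArg (γ.restrictScalars K) h6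
    rw [AlgEquiv.apply_symm_apply, hσM] at h7
    exact h7.trans (γ.commutes m)
  -- counting
  haveI : Module.Finite k l := inferInstance
  haveI : Finite (l ≃ₐ[k] l) := inferInstance
  let mk' : (k ⊗[R] S) →ₐ[k] l := Algebra.TensorProduct.lift (Algebra.ofId k l)
    (IsScalarTower.toAlgHom R S l) (fun _ _ => Commute.all _ _)
  have hmk' : Function.Surjective mk' := fun y => by
    obtain ⟨s, rfl⟩ := IsLocalRing.residue_surjective y
    exact ⟨1 ⊗ₜ s, by simp [mk']; rfl⟩
  have hrank : Module.finrank k (k ⊗[R] S) = Nat.card T := by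
    rw [Module.finrank_baseChange, IsIntegralClosure.rank R K M S, IsGalois.card_aut_eq_finrank]
  have hT : Nat.card T ≤ Nat.card (l ≃ₐ[k] l) := Nat.card_le_card_of_injective ψ hψ
  have hAut : Nat.card (l ≃ₐ[k] l) ≤ Module.finrank k l := by
    rw [Nat.card_eq_fintype_card]
    exact AlgEquiv.card_le (F := k) (K := l)
  have hle : Module.finrank k l ≤ Nat.card T := hrank ▸
    LinearMap.finrank_le_finrank_of_surjective (f := mk'.toLinearMap) hmk'
  haveI : IsGalois k l := IsGalois.of_card_aut_eq_finrank (F := k) (E := l) (by omega)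
  have hinj : Function.Injective mk' :=
    (LinearMap.injective_iff_surjective_of_finrank_eq_finrank (K := k)
      (show Module.finrank k (k ⊗[R] S) = Module.finrank k l by omega) (f := mk'.toLinearMap)).mpr hmk'
  have hmap : (maximalIdeal R).map (algebraMap R S) = maximalIdeal S := by
    refine le_antisymm (((IsLocalRing.local_hom_TFAE (algebraMap R S)).out 0 2 : IsLocalHom (algebraMap R S) ↔ (maximalIdeal R).map (algebraMap R S) ≤ maximalIdeal S).mp inferInstance) ?_
    intro s hs
    have h0 : mk' (1 ⊗ₜ s) = 0 := by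
      simp only [mk', Algebra.TensorProduct.lift_tmul, map_one, one_mul]
      exact (IsLocalRing.residue_eq_zero_iff s).mpr hs
    have h1 : (1 ⊗ₜ[R] s : k ⊗[R] S) = 0 := hinj (h0.trans (map_zero _).symm)
    let e := TensorProduct.quotTensorEquivQuotSMul S (maximalIdeal R)
    have h2 : e (1 ⊗ₜ[R] s) = 0 := (congrArg e h1).trans (map_zero e)
    replace h2 : e (Ideal.Quotient.mk (maximalIdeal R) 1 ⊗ₜ[R] s) = 0 := h2
    rw [TensorProduct.quotTensorEquivQuotSMul_mk_tmul, one_smul, Submodule.Quotient.mk_eq_zero] at h2
    rw [Ideal.smul_top_eq_map] at h2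
    exact h2
  haveI : Algebra.FormallyUnramified R S := Algebra.FormallyUnramified.of_map_maximalIdeal hmap
  haveI : Algebra.FinitePresentation R S := Algebra.FinitePresentation.of_finiteType.mp inferInstance
  exact Algebra.Etale.of_formallyUnramified_of_flat

end Groth.Agent.HenselVal
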